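-- Team project OTS (S5972), package [ANODD] (helper61): for i odd the anisotropic part is zero.
import Cfsg.Agent.Lib.Helper35.OTS.Defs
import Cfsg.Agent.Lib.Helper27.OHyp.BlkBasic
import Cfsg.Agent.Lib.Helper38.OHyp.IrrDim
import Cfsg.Agent.Lib.Helper13.OHyp.OddTS
import Cfsg.Agent.Lib.Helper96.OHyp.EvenDim

set_option autoImplicit false
open scoped MatrixGroups
open Matrix

namespace Cfsg.Agent.Lib.Helper61.OTS

open Cfsg.Agent.Lib.Helper23.OHyp Cfsg.Agent.Lib.Helper35.OTS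

universe u

/-- [ANODD] -/
theorem pkgAnOdd : PkgAnOdd.{u} := by
  intro F _ _ ι _ _ Q r x hS hodd A hA hAinv hAnd hAn
  by_contra hA0
  obtain ⟨U, hUA, hUmin⟩ := Cfsg.Agent.Lib.Helper27.OHyp.pkgMinEx F ι x A hAinv hA0
  have hUdim := Cfsg.Agent.Lib.Helper38.OHyp.pkgIrrDim F ι Q r x hS U (hUA.trans hA) hUmin
  rcases Cfsg.Agent.Lib.Helper27.OHyp.pkgDich F ι Q r x hS U hUmin with hnd | hperp
  · exact (Cfsg.Agent.Lib.Helper13.OHyp.pkgOddTS_of Cfsg.Agent.Lib.Helper96.OHyp.pkgEvenDim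
      Cfsg.Agent.Lib.Helper38.OHyp.pkgNoFix59) F ι Q r x hS U (hUA.trans hA) hUmin.1 hnd
      (by rw [hUdim]; exact hodd)
  · have hTS : TS Q U := by
      intro u hu
      have h1 := hperp u hu u hu
      have h2 : QuadraticMap.polar Q u u = 2 * Q u := by
        unfold QuadraticMap.polar
        have h3 : u + u = (2 : F) • u := (two_smul F u).symm
        rw [h3, hS.nondeg.smul]; ring
      rw [h2] at h1
      exact (mul_eq_zero.mp h1).resolve_left hS.two
    exact hUmin.2.1 (hAn U hUA hUmin.1 hTS)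

end Cfsg.Agent.Lib.Helper61.OTS
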