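-- Team project OTS (S5972), package [LADDER] (helper61): invariant subspaces of the moved space
-- have dimension divisible by i, and every multiple of i below occurs.
import Cfsg.Agent.Lib.Helper35.OTS.Defs
import Cfsg.Agent.Lib.Helper23.OHyp.Asm
import Cfsg.Agent.Lib.Helper27.OHyp.BlkBasic
import Cfsg.Agent.Lib.Helper38.OHyp.IrrDim
import Cfsg.Agent.Lib.Helper46.OHyp.Maschke

set_option autoImplicit false
open scoped MatrixGroups
open Matrix

namespace Cfsg.Agent.Lib.Helper61.OTS

open Cfsg.Agent.Lib.Helper23.OHyp Cfsg.Agent.Lib.Helper35.OTS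

universe u

section

variable {F : Type u} [Field F] {ι : Type} [Fintype ι] [DecidableEq ι]

theorem inv_bot (x : Matrix ι ι F) : Inv x (⊥ : Submodule F (ι → F)) := by
  unfold Cfsg.Agent.Lib.Helper23.OHyp.Inv; rw [Submodule.map_bot]

theorem inv_sup' {x : Matrix ι ι F} {A B : Submodule F (ι → F)} (hA : Inv x A)
    (hB : Inv x B) : Inv x (A ⊔ B) := by
  unfold Cfsg.Agent.Lib.Helper23.OHyp.Inv at *; rw [Submodule.map_sup]; exact sup_le_sup hA hB

theorem inv_apply {x : Matrix ι ι F} {W : Submodule F (ι → F)} (hW : Inv x W) {v : ι → F}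
    (hv : v ∈ W) : x *ᵥ v ∈ W :=
  hW (Submodule.mem_map.mpr ⟨v, hv, Matrix.toLin'_apply x v⟩)

theorem inv_of_apply {x : Matrix ι ι F} {W : Submodule F (ι → F)}
    (h : ∀ v ∈ W, x *ᵥ v ∈ W) : Inv x W := by
  rintro _ ⟨v, hv, rfl⟩
  rw [Matrix.toLin'_apply]
  exact h v hv

theorem inv_pow_apply {x : Matrix ι ι F} {W : Submodule F (ι → F)} (hW : Inv x W) (k : ℕ) :
    ∀ w ∈ W, (x ^ k) *ᵥ w ∈ W := by
  induction k with
  | zero => intro w hw; simpa using hw
  | succ k ih =>
    intro w hw
    rw [pow_succ', ← Matrix.mulVec_mulVec]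
    exact inv_apply hW (ih w hw)

end

/-- [LADDER] -/
theorem pkgLadder : PkgLadder.{u} := by
  intro F _ _ ι _ _ Q r x hS
  have hipos : 0 < ordI (Fintype.card F) r := ordI_pos hS.prime hS.ndvd
  suffices h : ∀ n : ℕ, ∀ W : Submodule F (ι → F), Module.finrank F W = n → W ≤ movSp x →
      Inv x W → ordI (Fintype.card F) r ∣ n ∧ ∀ j : ℕ, ordI (Fintype.card F) r * j ≤ n →
        ∃ W₁ : Submodule F (ι → F), W₁ ≤ W ∧ Inv x W₁ ∧
          Module.finrank F W₁ = ordI (Fintype.card F) r * j by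
    intro W hW hWinv
    exact h _ W rfl hW hWinv
  intro n
  induction n using Nat.strong_induction_on with
  | _ n ih =>
    intro W hn hW hWinv
    by_cases hW0 : W = ⊥
    · subst hW0
      rw [finrank_bot] at hn
      subst hn
      refine ⟨dvd_zero _, fun j hj => ⟨⊥, le_refl _, inv_bot x, ?_⟩⟩
      rw [finrank_bot]
      exact (Nat.le_zero.mp hj).symm
    · obtain ⟨U, hUW, hUmin⟩ := Cfsg.Agent.Lib.Helper27.OHyp.pkgMinEx F ι x W hWinv hW0
      have hUdim := Cfsg.Agent.Lib.Helper38.OHyp.pkgIrrDim F ι Q r x hS U (hUW.trans hW) hUmin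
      obtain ⟨C, hCW, hCinv, hUC, hUCW⟩ :=
        Cfsg.Agent.Lib.Helper46.OHyp.pkgMaschke F ι r x hS.ne hS.pow W U hUW hWinv hUmin.1
      have hdim : Module.finrank F W = Module.finrank F U + Module.finrank F C := by
        have h1 := Submodule.finrank_sup_add_finrank_inf_eq U C
        rw [hUC, hUCW, finrank_bot, add_zero] at h1
        exact h1
      have hClt : Module.finrank F C < n := by omega
      obtain ⟨hCdvd, hCj⟩ := ih _ hClt C rfl (hCW.trans hW) hCinv
      refine ⟨?_, ?_⟩
      · rw [← hn, hdim, hUdim]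
        exact (Nat.dvd_add_right (dvd_refl _)).mpr hCdvd
      · intro j hj
        rcases j with _ | j
        · exact ⟨⊥, bot_le, inv_bot x, by rw [finrank_bot, mul_zero]⟩
        · have hj' : ordI (Fintype.card F) r * j ≤ Module.finrank F C := by
            rw [Nat.mul_succ] at hj; omega
          obtain ⟨C₁, hC₁C, hC₁inv, hC₁dim⟩ := hCj j hj'
          refine ⟨U ⊔ C₁, sup_le hUW (hC₁C.trans hCW), inv_sup' hUmin.1 hC₁inv, ?_⟩
          have hinf : U ⊓ C₁ = ⊥ := by
            apply le_bot_iff.mp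
            rw [← hUC]
            exact inf_le_inf_left U hC₁C
          have h2 := Submodule.finrank_sup_add_finrank_inf_eq U C₁
          rw [hinf, finrank_bot, add_zero] at h2
          rw [h2, hUdim, hC₁dim, Nat.mul_succ]; omega

end Cfsg.Agent.Lib.Helper61.OTS
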