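-- Team project OTS (S5972), package [ANISO] (helper61): the moved space is W₀ ⊕ W₀' ⊕ A with
-- W₀ invariant totally singular of maximal dimension and A invariant, nondegenerate, without
-- nonzero invariant totally singular subspaces.
import Cfsg.Agent.Lib.Helper35.OTS.Defs
import Cfsg.Agent.Lib.Helper97.OHyp.Split
import Cfsg.Agent.Lib.Helper97.OHyp.Inj
import Cfsg.Agent.Lib.Helper46.OHyp.Maschke
import Cfsg.Agent.Lib.Helper61.OTS.Ladder

set_option autoImplicit false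
open scoped MatrixGroups
open Matrix

namespace Cfsg.Agent.Lib.Helper61.OTS

open Cfsg.Agent.Lib.Helper23.OHyp Cfsg.Agent.Lib.Helper35.OTS

universe u

section

variable {F : Type u} [Field F] {ι : Type} [Fintype ι] [DecidableEq ι]

/-- The orthogonal of `D` for the polar form of `Q`. -/
def perpSp (Q : (ι → F) → F) (hB : Cfsg.Geo.IsBilinearForm (QuadraticMap.polar Q))
    (D : Submodule F (ι → F)) : Submodule F (ι → F) where
  carrier := {v | ∀ w ∈ D, QuadraticMap.polar Q w v = 0}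
  add_mem' := by
    intro a b ha hb w hw
    rw [hB.add_right, ha w hw, hb w hw, add_zero]
  zero_mem' := by
    intro w _
    have h := hB.smul_right 0 w 0
    rw [zero_smul, zero_mul] at h
    exact h
  smul_mem' := by
    intro c v hv w hw
    rw [hB.smul_right, hv w hw, mul_zero]

omit [Fintype ι] [DecidableEq ι] in
theorem mem_perpSp {Q : (ι → F) → F} {hB : Cfsg.Geo.IsBilinearForm (QuadraticMap.polar Q)}
    {D : Submodule F (ι → F)} {v : ι → F} :
    v ∈ perpSp Q hB D ↔ ∀ w ∈ D, QuadraticMap.polar Q w v = 0 := Iff.rfl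

/-- Dimension of the orthogonal of `D` inside a nondegenerate subspace `N ≥ D`. -/
theorem finrank_perp_add {Q : (ι → F) → F} (hQ : Cfsg.Geo.IsNondegenerateQuadraticForm Q)
    (N D : Submodule F (ι → F)) (hN : Nd Q N) (hD : D ≤ N) :
    Module.finrank F ↥(N ⊓ perpSp Q hQ.polar_bilinear D) + Module.finrank F D =
      Module.finrank F N := by
  obtain ⟨K₀, hK₀⟩ := Submodule.exists_isCompl (N ⊓ perpSp Q hQ.polar_bilinear D)
  have hMK : (N ⊓ perpSp Q hQ.polar_bilinear D) ⊓ (K₀ ⊓ N) = ⊥ := by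
    apply le_bot_iff.mp
    rw [← hK₀.inf_eq_bot]
    exact inf_le_inf_left _ inf_le_left
  have hMKN : (N ⊓ perpSp Q hQ.polar_bilinear D) ⊔ (K₀ ⊓ N) = N := by
    rw [← sup_inf_assoc_of_le K₀ (inf_le_left : N ⊓ perpSp Q hQ.polar_bilinear D ≤ N),
      hK₀.sup_eq_top, top_inf_eq]
  have hdim : Module.finrank F N =
      Module.finrank F ↥(N ⊓ perpSp Q hQ.polar_bilinear D) + Module.finrank F ↥(K₀ ⊓ N) := by
    have h1 := Submodule.finrank_sup_add_finrank_inf_eq (N ⊓ perpSp Q hQ.polar_bilinear D)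
      (K₀ ⊓ N)
    rw [hMK, hMKN, finrank_bot, add_zero] at h1
    exact h1
  have hsymm : ∀ u v, QuadraticMap.polar Q u v = QuadraticMap.polar Q v u :=
    fun u v => QuadraticMap.polar_comm Q u v
  have h1 : Module.finrank F D ≤ Module.finrank F ↥(K₀ ⊓ N) := by
    apply Cfsg.Agent.Lib.Helper97.OHyp.pkgInj F ι Q hQ (K₀ ⊓ N) D
    intro v hv hall
    by_contra hv0
    obtain ⟨-, ⟨y, hyN, hy⟩⟩ := hN v (hD hv) hv0
    apply hy
    have hyMK : y ∈ (N ⊓ perpSp Q hQ.polar_bilinear D) ⊔ (K₀ ⊓ N) := by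
      rw [hMKN]; exact hyN
    obtain ⟨a, ha, b, hb, rfl⟩ := Submodule.mem_sup.mp hyMK
    rw [hQ.polar_bilinear.add_right, (Submodule.mem_inf.mp ha).2 v hv, zero_add, hsymm,
      hall b hb]
  have h2 : Module.finrank F ↥(K₀ ⊓ N) ≤ Module.finrank F D := by
    apply Cfsg.Agent.Lib.Helper97.OHyp.pkgInj F ι Q hQ D (K₀ ⊓ N)
    intro v hv hall
    have hvM : v ∈ N ⊓ perpSp Q hQ.polar_bilinear D :=
      Submodule.mem_inf.mpr ⟨(Submodule.mem_inf.mp hv).2, hall⟩
    have h3 : v ∈ (N ⊓ perpSp Q hQ.polar_bilinear D) ⊓ (K₀ ⊓ N) :=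
      Submodule.mem_inf.mpr ⟨hvM, hv⟩
    rw [hMK] at h3
    exact (Submodule.mem_bot F).mp h3
  omega

end

/-- [ANISO] -/
theorem pkgAniso : PkgAniso.{u} := by
  intro F _ _ ι _ _ Q r x hS
  have hQ := hS.nondeg
  have hB := hQ.polar_bilinear
  obtain ⟨-, hNdMov, -, -, hInvMov, -⟩ := Cfsg.Agent.Lib.Helper97.OHyp.pkgSplit F ι Q r x hS
  have hsymm : ∀ u v, QuadraticMap.polar Q u v = QuadraticMap.polar Q v u :=
    fun u v => QuadraticMap.polar_comm Q u v
  have hadd : ∀ a b : ι → F, Q (a + b) = Q a + Q b + QuadraticMap.polar Q a b := by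
    intro a b; unfold QuadraticMap.polar; ring
  have hpolx : ∀ u v, QuadraticMap.polar Q (x *ᵥ u) (x *ᵥ v) = QuadraticMap.polar Q u v := by
    intro u v
    unfold QuadraticMap.polar
    rw [← Matrix.mulVec_add, hS.isom, hS.isom, hS.isom]
  have hQ0 : Q 0 = 0 := by
    have h := hQ.smul 0 0
    simpa using h
  -- a totally singular invariant subspace of the moved space of maximal dimension
  have hSne : ({k | ∃ W : Submodule F (ι → F), W ≤ movSp x ∧ Inv x W ∧ TS Q W ∧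
      Module.finrank F W = k} : Set ℕ).Nonempty :=
    ⟨0, ⊥, bot_le, inv_bot x, fun w hw => by rw [(Submodule.mem_bot F).mp hw]; exact hQ0,
      finrank_bot F (ι → F)⟩
  have hSbdd : BddAbove ({k | ∃ W : Submodule F (ι → F), W ≤ movSp x ∧ Inv x W ∧ TS Q W ∧
      Module.finrank F W = k} : Set ℕ) :=
    ⟨Module.finrank F (movSp x), by
      rintro k ⟨W, hW, -, -, rfl⟩
      exact Submodule.finrank_mono hW⟩
  obtain ⟨W₀, hW₀N, hW₀inv, hW₀TS, hW₀dim⟩ := Nat.sSup_mem hSne hSbdd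
  have hmax : ∀ W : Submodule F (ι → F), W ≤ movSp x → Inv x W → TS Q W →
      Module.finrank F W ≤ Module.finrank F W₀ := by
    intro W hW hWinv hWTS
    rw [hW₀dim]
    exact le_csSup hSbdd ⟨W, hW, hWinv, hWTS, rfl⟩
  -- M = the orthogonal of W₀ inside the moved space
  have hW₀M : W₀ ≤ movSp x ⊓ perpSp Q hB W₀ := by
    refine le_inf hW₀N (fun w hw w' hw' => ?_)
    show QuadraticMap.polar Q w' w = 0
    unfold QuadraticMap.polar
    rw [hW₀TS _ (W₀.add_mem hw' hw), hW₀TS _ hw', hW₀TS _ hw]; ring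
  have hrpos : r = (r - 1) + 1 := by have := hS.prime.pos; omega
  have hMinv : Inv x (movSp x ⊓ perpSp Q hB W₀) := by
    apply inv_of_apply
    intro v hv
    refine Submodule.mem_inf.mpr ⟨inv_apply hInvMov (Submodule.mem_inf.mp hv).1, ?_⟩
    intro w hw
    have hw' : (x ^ (r - 1)) *ᵥ w ∈ W₀ := inv_pow_apply hW₀inv (r - 1) w hw
    have hxw : x *ᵥ ((x ^ (r - 1)) *ᵥ w) = w := by
      rw [Matrix.mulVec_mulVec, ← pow_succ', ← hrpos, hS.pow, Matrix.one_mulVec]
    rw [← hxw, hpolx]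
    exact (Submodule.mem_inf.mp hv).2 _ hw'
  obtain ⟨A, hAM, hAinv, hW₀A, hW₀AM⟩ :=
    Cfsg.Agent.Lib.Helper46.OHyp.pkgMaschke F ι r x hS.ne hS.pow
      (movSp x ⊓ perpSp Q hB W₀) W₀ hW₀M hMinv hW₀inv
  have hMdim : Module.finrank F ↥(movSp x ⊓ perpSp Q hB W₀) =
      Module.finrank F W₀ + Module.finrank F A := by
    have h1 := Submodule.finrank_sup_add_finrank_inf_eq W₀ A
    rw [hW₀A, hW₀AM, finrank_bot, add_zero] at h1
    exact h1
  have hdimM := finrank_perp_add hQ (movSp x) W₀ hNdMov hW₀N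
  have hAN : A ≤ movSp x := hAM.trans inf_le_left
  -- A is nondegenerate
  have key : ∀ a ∈ A, (∀ y ∈ A, QuadraticMap.polar Q y a = 0) → a = 0 := by
    intro a ha hall
    have haM : a ∈ movSp x ⊓ perpSp Q hB W₀ := hAM ha
    have haperpM : a ∈ movSp x ⊓ perpSp Q hB (movSp x ⊓ perpSp Q hB W₀) := by
      refine Submodule.mem_inf.mpr ⟨(Submodule.mem_inf.mp haM).1, fun y hy => ?_⟩
      have hy' : y ∈ W₀ ⊔ A := by rw [hW₀AM]; exact hy
      obtain ⟨w, hw, b, hb, rfl⟩ := Submodule.mem_sup.mp hy'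
      show QuadraticMap.polar Q (w + b) a = 0
      rw [hB.add_left, (Submodule.mem_inf.mp haM).2 w hw, hall b hb, add_zero]
    have hW₀W₁ : W₀ ≤ movSp x ⊓ perpSp Q hB (movSp x ⊓ perpSp Q hB W₀) := by
      refine le_inf hW₀N (fun w hw y hy => ?_)
      show QuadraticMap.polar Q y w = 0
      rw [hsymm]
      exact (Submodule.mem_inf.mp hy).2 w hw
    have hdimW₁ := finrank_perp_add hQ (movSp x) (movSp x ⊓ perpSp Q hB W₀) hNdMov inf_le_left
    have hEq : W₀ = movSp x ⊓ perpSp Q hB (movSp x ⊓ perpSp Q hB W₀) :=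
      Submodule.eq_of_le_of_finrank_eq hW₀W₁ (by omega)
    have haW₀ : a ∈ W₀ := by rw [hEq]; exact haperpM
    have h3 : a ∈ W₀ ⊓ A := Submodule.mem_inf.mpr ⟨haW₀, ha⟩
    rw [hW₀A] at h3
    exact (Submodule.mem_bot F).mp h3
  have hAnd : Nd Q A := by
    intro a ha ha0
    constructor
    · by_contra hcon
      push Not at hcon
      exact ha0 (key a ha hcon)
    · by_contra hcon
      push Not at hcon
      exact ha0 (key a ha (fun y hy => by rw [hsymm]; exact hcon y hy))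
  -- A has no invariant totally singular subspaces
  have hAn : Aniso Q x A := by
    intro W hWA hWinv hWTS
    have hsupTS : TS Q (W₀ ⊔ W) := by
      intro v hv
      obtain ⟨w₀, hw₀, w, hw, rfl⟩ := Submodule.mem_sup.mp hv
      rw [hadd, hW₀TS w₀ hw₀, hWTS w hw, (Submodule.mem_inf.mp (hAM (hWA hw))).2 w₀ hw₀]
      ring
    have hinf : W₀ ⊓ W = ⊥ := by
      apply le_bot_iff.mp
      rw [← hW₀A]
      exact inf_le_inf_left W₀ hWA
    have hdim := Submodule.finrank_sup_add_finrank_inf_eq W₀ W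
    rw [hinf, finrank_bot, add_zero] at hdim
    have hle := hmax (W₀ ⊔ W) (sup_le hW₀N (hWA.trans hAN)) (inv_sup' hW₀inv hWinv) hsupTS
    have h0 : Module.finrank F W = 0 := by omega
    exact Submodule.finrank_eq_zero.mp h0
  refine ⟨W₀, A, hW₀N, hAN, hW₀inv, hAinv, hW₀TS, hAnd, hAn, ?_⟩
  omega

end Cfsg.Agent.Lib.Helper61.OTS
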